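import Mathlib

/-!
# Finite algebras over a local ring: decomposition into local rings
-/

namespace Groth.Agent.Helper2.Fix.FiniteLocalOrig

open IsLocalRing

section general
variable {B : Type*} [CommRing B]

/-- the "star" property: separated idempotents for each maximal ideal -/
def Star (B : Type*) [CommRing B] : Prop :=
  ∀ n : MaximalSpectrum B, ∃ e : B, IsIdempotentElem e ∧ e ∉ n.asIdeal ∧
    ∀ n' : MaximalSpectrum B, n' ≠ n → e ∈ n'.asIdeal

lemma idem_eq_zero_of_mem_jacobson {e : B} (he : IsIdempotentElem e)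
    (hj : e ∈ Ideal.jacobson (⊥ : Ideal B)) : e = 0 := by
  have h1 := (Ideal.mem_jacobson_bot.mp hj) (-1)
  have h2 : (e * -1 + 1) * e = 0 := by
    have : e * e = e := he
    linear_combination -this
  exact (h1.mul_right_eq_zero).mp h2

lemma mem_jacobson_of_forall {x : B} (h : ∀ n : MaximalSpectrum B, x ∈ n.asIdeal) :
    x ∈ Ideal.jacobson (⊥ : Ideal B) := by
  rw [Ideal.jacobson, Ideal.mem_sInf]
  intro I hI
  exact h ⟨I, hI.2⟩

lemma forall_mem_of_mem_jacobson {x : B} (h : x ∈ Ideal.jacobson (⊥ : Ideal B))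
    (n : MaximalSpectrum B) : x ∈ n.asIdeal := by
  rw [Ideal.jacobson, Ideal.mem_sInf] at h
  exact h ⟨bot_le, n.isMaximal⟩

/-- Lemma 1: star implies bijectivity of the map to the product of localizations -/
theorem bijective_of_star [Finite (MaximalSpectrum B)] (hs : Star B) :
    Function.Bijective
      (RingHom.pi (fun n : MaximalSpectrum B => algebraMap B (Localization.AtPrime n.asIdeal))) := by
  classical
  cases nonempty_fintype (MaximalSpectrum B)
  constructor
  · rw [injective_iff_map_eq_zero]
    intro x hx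
    apply eq_zero_of_localization
    intro J hJ
    exact congrFun hx ⟨J, hJ⟩
  · choose e he1 he2 he3 using hs
    have horth : ∀ n n', n ≠ n' → e n * e n' = 0 := by
      intro n n' hne
      apply idem_eq_zero_of_mem_jacobson ((he1 n).mul (he1 n'))
      apply mem_jacobson_of_forall
      intro n''
      by_cases h : n'' = n
      · subst h
        exact Ideal.mul_mem_left _ _ (he3 n' n'' hne)
      · exact Ideal.mul_mem_right _ _ (he3 n n'' h)
    have hunit : ∀ (n : MaximalSpectrum B) (s : B), s ∉ n.asIdeal → ∃ t, s * t * e n = e n := by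
      intro n s hs
      have htop : Ideal.span {s} ⊔ Ideal.span {1 - e n} = ⊤ := by
        by_contra hne
        obtain ⟨M, hM, hle⟩ := Ideal.exists_le_maximal _ hne
        have h1 : 1 - e n ∈ M := hle (Ideal.mem_sup_right (Ideal.mem_span_singleton_self _))
        have h2 : s ∈ M := hle (Ideal.mem_sup_left (Ideal.mem_span_singleton_self _))
        have h3 : e n ∉ M := by
          intro h
          have := Ideal.add_mem _ h1 h
          rw [sub_add_cancel] at this
          exact hM.ne_top ((Ideal.eq_top_iff_one _).mpr this)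
        have h4 : (⟨M, hM⟩ : MaximalSpectrum B) = n := by
          by_contra h
          exact h3 (he3 n ⟨M, hM⟩ h)
        rw [← h4] at hs
        exact hs h2
      have h1 : (1 : B) ∈ Ideal.span {s} ⊔ Ideal.span {1 - e n} := by rw [htop]; trivial
      obtain ⟨a, ha, b, hb, hab⟩ := Submodule.mem_sup.mp h1
      obtain ⟨t, rfl⟩ := Ideal.mem_span_singleton'.mp ha
      obtain ⟨u, rfl⟩ := Ideal.mem_span_singleton'.mp hb
      refine ⟨t, ?_⟩
      have h5 : e n * e n = e n := he1 n
      calc s * t * e n = (t * s + u * (1 - e n)) * e n - u * (e n - e n * e n) := by ring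
        _ = e n := by rw [hab, h5]; ring
    intro y
    have hy : ∀ n, ∃ (r : B) (s : n.asIdeal.primeCompl), y n = IsLocalization.mk' _ r s := fun n => by
      obtain ⟨r, s, h⟩ := IsLocalization.exists_mk'_eq n.asIdeal.primeCompl (y n)
      exact ⟨r, s, h.symm⟩
    choose r s hrs using hy
    have ht : ∀ n, ∃ t, (s n : B) * t * e n = e n := fun n => hunit n (s n) (s n).2
    choose t ht using ht
    refine ⟨∑ n, r n * t n * e n, ?_⟩
    ext n
    simp only [RingHom.pi_apply]
    rw [hrs n, IsLocalization.eq_mk'_iff_mul_eq, ← map_mul,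
      IsLocalization.eq_iff_exists n.asIdeal.primeCompl]
    refine ⟨⟨e n, he2 n⟩, ?_⟩
    simp only
    have h6 : e n * ∑ n', r n' * t n' * e n' = r n * t n * e n := by
      rw [Finset.mul_sum, Finset.sum_eq_single n]
      · have h5 : e n * e n = e n := he1 n
        calc e n * (r n * t n * e n) = r n * t n * (e n * e n) := by ring
          _ = _ := by rw [h5]
      · intro n' _ hne
        calc e n * (r n' * t n' * e n') = r n' * t n' * (e n * e n') := by ring
          _ = 0 := by rw [horth n n' (Ne.symm hne), mul_zero]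
      · intro h; exact absurd (Finset.mem_univ n) h
    calc e n * ((∑ n', r n' * t n' * e n') * (s n : B))
        = (e n * ∑ n', r n' * t n' * e n') * (s n : B) := by ring
      _ = r n * ((s n : B) * t n * e n) := by rw [h6]; ring
      _ = e n * r n := by rw [ht n]; ring

/-- Lemma 2: a finite product of local rings has the star property (transported along an iso). -/
theorem star_of_equiv_pi {ι : Type*} [Fintype ι] {C : ι → Type*} [∀ j, CommRing (C j)]
    [∀ j, IsLocalRing (C j)] (φ : B ≃+* (∀ j, C j)) : Star B := by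
  classical
  intro n
  let E : ι → B := fun j => φ.symm (Pi.single j 1)
  have hE1 : ∀ j, IsIdempotentElem (E j) := by
    intro j
    change E j * E j = E j
    simp only [E]
    rw [← map_mul, ← Pi.single_mul, one_mul]
  have hsum : ∑ j, E j = 1 := by
    simp only [E]
    rw [← map_sum, Finset.univ_sum_single]
    exact map_one φ.symm
  have hex : ∃ j, E j ∉ n.asIdeal := by
    by_contra h
    push Not at h
    have : (1 : B) ∈ n.asIdeal := by
      rw [← hsum]
      exact Ideal.sum_mem _ fun j _ => h j
    exact n.isMaximal.ne_top ((Ideal.eq_top_iff_one _).mpr this)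
  obtain ⟨j, hj⟩ := hex
  let K : Ideal B := Ideal.comap ((Pi.evalRingHom C j).comp (φ : B →+* (∀ j, C j))) (maximalIdeal (C j))
  have hK : K ≠ ⊤ := (Ideal.comap_isPrime _ _).ne_top
  have key : ∀ n' : MaximalSpectrum B, E j ∉ n'.asIdeal → n'.asIdeal = K := by
    intro n' hn'
    apply n'.isMaximal.eq_of_le hK
    intro b hb
    by_contra hbK
    have hu : IsUnit (φ b j) := by
      by_contra hnu
      exact hbK ((mem_maximalIdeal _).mpr hnu)
    obtain ⟨u, hu⟩ := hu
    let b' : B := φ.symm (Pi.single j (↑u⁻¹ : C j))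
    have : b * b' = E j := by
      apply φ.injective
      simp only [b', E, map_mul, RingEquiv.apply_symm_apply]
      ext i
      by_cases hij : i = j
      · subst hij
        simp [← hu]
      · simp [Pi.single_eq_of_ne hij]
    exact hn' (this ▸ Ideal.mul_mem_right _ _ hb)
  refine ⟨E j, hE1 j, hj, ?_⟩
  intro n' hne
  by_contra h
  apply hne
  ext1
  rw [key n' h, key n hj]

end general

section finite
variable (A : Type*) [CommRing A] [IsLocalRing A] (B : Type*) [CommRing B] [Algebra A B]
  [Module.Finite A B]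

local notation "mB" => Ideal.map (algebraMap A B) (maximalIdeal A)

lemma isArtinian_quot : IsArtinianRing (B ⧸ mB) := by
  let _ : Field (A ⧸ maximalIdeal A) := Ideal.Quotient.field _
  have : Module.Finite (A ⧸ maximalIdeal A) (B ⧸ mB) := Module.Finite.of_restrictScalars_finite A _ _
  exact IsArtinianRing.of_finite (A ⧸ maximalIdeal A) (B ⧸ mB)

lemma le_maximal (n : Ideal B) [hn : n.IsMaximal] : mB ≤ n := by
  have : Algebra.IsIntegral A B := Algebra.IsIntegral.of_finite A B
  have h1 : (Ideal.comap (algebraMap A B) n).IsMaximal :=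
    Ideal.isMaximal_comap_of_isIntegral_of_isMaximal n
  have h2 : Ideal.comap (algebraMap A B) n = maximalIdeal A := IsLocalRing.eq_maximalIdeal h1
  rw [Ideal.map_le_iff_le_comap, h2]

include A in
lemma finite_maxSpec : Finite (MaximalSpectrum B) := by
  have := isArtinian_quot A B
  let g : MaximalSpectrum (B ⧸ mB) → MaximalSpectrum B := fun n =>
    ⟨Ideal.comap (Ideal.Quotient.mk mB) n.asIdeal,
      Ideal.comap_isMaximal_of_surjective _ Ideal.Quotient.mk_surjective (H := n.isMaximal)⟩
  have hg : Function.Surjective g := by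
    intro n
    have hle := le_maximal A B n.asIdeal
    have hcm := Ideal.comap_map_mk hle
    have hmax : (Ideal.map (Ideal.Quotient.mk mB) n.asIdeal).IsMaximal := by
      rcases Ideal.map_eq_top_or_isMaximal_of_surjective (Ideal.Quotient.mk mB)
        Ideal.Quotient.mk_surjective n.isMaximal with h | h
      · exfalso
        rw [h, Ideal.comap_top] at hcm
        exact n.isMaximal.ne_top hcm.symm
      · exact h
    refine ⟨⟨_, hmax⟩, ?_⟩
    ext1
    exact hcm
  exact Finite.of_surjective g hg

include A in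
lemma jac_nilp {x : B} (hx : x ∈ Ideal.jacobson (⊥ : Ideal B)) : ∃ N : ℕ, x ^ N ∈ mB := by
  have := isArtinian_quot A B
  have h1 : Ideal.Quotient.mk mB x ∈ Ideal.jacobson (⊥ : Ideal (B ⧸ mB)) := by
    apply mem_jacobson_of_forall
    intro n
    have hmax : (Ideal.comap (Ideal.Quotient.mk mB) n.asIdeal).IsMaximal :=
      Ideal.comap_isMaximal_of_surjective _ Ideal.Quotient.mk_surjective (H := n.isMaximal)
    exact forall_mem_of_mem_jacobson hx ⟨_, hmax⟩
  obtain ⟨N, hN⟩ := IsArtinianRing.isNilpotent_jacobson_bot (R := B ⧸ mB)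
  refine ⟨N, ?_⟩
  have h2 := Ideal.pow_mem_pow h1 N
  rw [hN, Ideal.zero_eq_bot, Ideal.mem_bot, ← map_pow] at h2
  exact Ideal.Quotient.eq_zero_iff_mem.mp h2


omit [Module.Finite A B] [IsLocalRing A] in
lemma exists_family (hs : Star B) : ∃ e : MaximalSpectrum B → B, (∀ n, IsIdempotentElem (e n)) ∧
    (∀ n, e n ∉ n.asIdeal) ∧ (∀ n n' : MaximalSpectrum B, n' ≠ n → e n ∈ n'.asIdeal) ∧
    ∀ n n', n ≠ n' → e n * e n' = 0 := by
  choose e he1 he2 he3 using hs
  refine ⟨e, he1, he2, he3, ?_⟩
  intro n n' hne
  apply idem_eq_zero_of_mem_jacobson ((he1 n).mul (he1 n'))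
  apply mem_jacobson_of_forall
  intro n''
  by_cases h : n'' = n
  · subst h
    exact Ideal.mul_mem_left _ _ (he3 n' n'' hne)
  · exact Ideal.mul_mem_right _ _ (he3 n n'' h)

include A in
lemma map_le_jacobson : mB ≤ Ideal.jacobson (⊥ : Ideal B) := by
  intro x hx
  apply mem_jacobson_of_forall
  intro n
  exact le_maximal A B n.asIdeal hx

include A in
/-- idempotent lifting implies the star property -/
theorem star_of_lift
    (hlift : Set.SurjOn (Ideal.Quotient.mk mB) {e : B | IsIdempotentElem e} {e | IsIdempotentElem e}) :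
    Star B := by
  classical
  have hfin := finite_maxSpec A B
  intro n
  have hcop : Pairwise (Function.onFun IsCoprime fun n' : MaximalSpectrum B => n'.asIdeal) := by
    intro n1 n2 hne
    rw [Function.onFun, Ideal.isCoprime_iff_sup_eq]
    exact Ideal.IsMaximal.coprime_of_ne n1.isMaximal n2.isMaximal (fun h => hne (MaximalSpectrum.ext h))
  obtain ⟨a, ha⟩ := Ideal.exists_forall_sub_mem_ideal hcop (fun n' => if n' = n then (1 : B) else 0)
  have ha1 : a - 1 ∈ n.asIdeal := by simpa using ha n
  have ha2 : ∀ n' : MaximalSpectrum B, n' ≠ n → a ∈ n'.asIdeal := by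
    intro n' hne
    simpa [hne] using ha n'
  set J := Ideal.jacobson (⊥ : Ideal B) with hJ
  have hle : mB ≤ J := map_le_jacobson A B
  have haJ : a * a - a ∈ J := by
    apply mem_jacobson_of_forall
    intro n'
    by_cases h : n' = n
    · subst h
      have : a * a - a = a * (a - 1) := by ring
      rw [this]
      exact Ideal.mul_mem_left _ _ ha1
    · have : a * a - a = (a - 1) * a := by ring
      rw [this]
      exact Ideal.mul_mem_left _ _ (ha2 n' h)
  let f : B ⧸ mB →+* B ⧸ J := Ideal.Quotient.factor hle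
  have hker : ∀ x ∈ RingHom.ker f, IsNilpotent x := by
    intro x hx
    obtain ⟨b, rfl⟩ := Ideal.Quotient.mk_surjective x
    have hb : b ∈ J := by
      rw [RingHom.mem_ker] at hx
      simpa [f] using Ideal.Quotient.eq_zero_iff_mem.mp hx
    obtain ⟨N, hN⟩ := jac_nilp A B hb
    exact ⟨N, by rw [← map_pow]; exact Ideal.Quotient.eq_zero_iff_mem.mpr hN⟩
  have hidem : IsIdempotentElem (Ideal.Quotient.mk J a) := by
    change _ * _ = _
    rw [← map_mul, ← sub_eq_zero, ← map_sub]
    exact Ideal.Quotient.eq_zero_iff_mem.mpr haJ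
  obtain ⟨e', he'1, he'2⟩ := exists_isIdempotentElem_eq_of_ker_isNilpotent f hker
    (Ideal.Quotient.mk J a) ⟨Ideal.Quotient.mk mB a, by simp [f]⟩ hidem
  obtain ⟨e, he1, he2⟩ := hlift he'1
  have heJ : e - a ∈ J := by
    rw [← Ideal.Quotient.eq, ← he'2, ← he2]
    simp [f]
  refine ⟨e, he1, ?_, ?_⟩
  · intro hmem
    have h1 : e - a ∈ n.asIdeal := forall_mem_of_mem_jacobson heJ n
    have : (1 : B) ∈ n.asIdeal := by
      have h2 := Ideal.sub_mem _ (Ideal.sub_mem _ hmem h1) ha1
      have : e - (e - a) - (a - 1) = 1 := by ring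
      rwa [this] at h2
    exact n.isMaximal.ne_top ((Ideal.eq_top_iff_one _).mpr this)
  · intro n' hne
    have h1 : e - a ∈ n'.asIdeal := forall_mem_of_mem_jacobson heJ n'
    have := Ideal.add_mem _ h1 (ha2 n' hne)
    rwa [sub_add_cancel] at this

include A in
/-- the star property implies idempotent lifting -/
theorem lift_of_star (hs : Star B) :
    Set.SurjOn (Ideal.Quotient.mk mB) {e : B | IsIdempotentElem e} {e | IsIdempotentElem e} := by
  classical
  have hfin := finite_maxSpec A B
  cases nonempty_fintype (MaximalSpectrum B)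
  obtain ⟨e, he1, he2, he3, he4⟩ := exists_family B hs
  intro ebar hebar
  obtain ⟨b, rfl⟩ := Ideal.Quotient.mk_surjective ebar
  have hb : b * b - b ∈ mB := by
    rw [← Ideal.Quotient.eq_zero_iff_mem, map_sub, map_mul, sub_eq_zero]
    exact hebar
  have hbn : ∀ n : MaximalSpectrum B, b ∈ n.asIdeal ∨ b - 1 ∈ n.asIdeal := by
    intro n
    have h1 : b * (b - 1) ∈ n.asIdeal := by
      have := le_maximal A B n.asIdeal hb
      have h2 : b * b - b = b * (b - 1) := by ring
      rwa [h2] at this
    exact n.isMaximal.isPrime.mem_or_mem h1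
  let T : Finset (MaximalSpectrum B) := Finset.univ.filter (fun n => b - 1 ∈ n.asIdeal)
  have hortho : OrthogonalIdempotents e := ⟨he1, fun n n' hne => he4 n n' hne⟩
  have hE : IsIdempotentElem (∑ n ∈ T, e n) := hortho.isIdempotentElem_sum
  have h1e : ∀ n : MaximalSpectrum B, 1 - e n ∈ n.asIdeal := by
    intro n
    have h : e n * (1 - e n) ∈ n.asIdeal := by
      have h5 : e n * e n = e n := he1 n
      have : e n * (1 - e n) = 0 := by rw [mul_sub, mul_one, h5, sub_self]
      rw [this]; exact Ideal.zero_mem _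
    exact (n.isMaximal.isPrime.mem_or_mem h).resolve_left (he2 n)
  have hdiff : (∑ n ∈ T, e n) - b ∈ Ideal.jacobson (⊥ : Ideal B) := by
    apply mem_jacobson_of_forall
    intro n0
    by_cases hn0 : n0 ∈ T
    · have hb1 : b - 1 ∈ n0.asIdeal := (Finset.mem_filter.mp hn0).2
      rw [← Finset.add_sum_erase T e hn0]
      have h2 : ∑ n ∈ T.erase n0, e n ∈ n0.asIdeal :=
        Ideal.sum_mem _ fun n hn => he3 n n0 (Finset.ne_of_mem_erase hn).symm
      have h3 : e n0 + ∑ n ∈ T.erase n0, e n - b =
          (∑ n ∈ T.erase n0, e n) - (1 - e n0) - (b - 1) := by ring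
      rw [h3]
      exact Ideal.sub_mem _ (Ideal.sub_mem _ h2 (h1e n0)) hb1
    · have hb0 : b ∈ n0.asIdeal := by
        rcases hbn n0 with h | h
        · exact h
        · exact absurd (show n0 ∈ T from Finset.mem_filter.mpr ⟨Finset.mem_univ _, h⟩) hn0
      refine Ideal.sub_mem _ (Ideal.sum_mem _ fun n hn => he3 n n0 ?_) hb0
      rintro rfl
      exact hn0 hn
  obtain ⟨N, hN⟩ := jac_nilp A B hdiff
  refine ⟨∑ n ∈ T, e n, hE, ?_⟩
  apply eq_of_isNilpotent_sub_of_isIdempotentElem (hE.map (Ideal.Quotient.mk mB)) hebar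
  refine ⟨N, ?_⟩
  rw [← map_sub, ← map_pow]
  exact Ideal.Quotient.eq_zero_iff_mem.mpr hN

end finite

end Groth.Agent.Helper2.Fix.FiniteLocalOrig
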