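import Groth.Prelude.Def_WittGrp
import Mathlib

/-!
# Quasi-F-splittings of level `m` and the induced lifting modulo `p²` (helper for S16372, S16373)
-/

set_option autoImplicit false
set_option linter.unusedSectionVars false
universe u

namespace Groth.Agent.Helper2.Fix.QFSplitOrig

open WittGrp

variable (p : ℕ) [hp : Fact p.Prime] (m : ℕ) {R : Type u} [CommRing R]

local notation "Wm" => TruncatedWittVector p m R
local notation "Wm1" => TruncatedWittVector p (m + 1) R

/-- restriction `W_{m+1} → W_m` -/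
noncomputable abbrev Res : Wm1 →+* Wm := TruncatedWittVector.truncate (Nat.le_succ m)

/-- the shift `V : W_m → W_{m+1}` -/
noncomputable abbrev Vs : Wm →+ Wm1 := shift p (Nat.le_succ m)

theorem Vs_truncate (X : WittVector p R) :
    Vs p m (WittVector.truncate m X) = WittVector.truncate (m + 1) (WittVector.verschiebung X) := by
  have := shift_truncate p (Nat.le_succ m) X
  rw [show m.succ - m = 1 by omega] at this
  exact this

theorem subsingleton_W (n : ℕ) [Subsingleton R] (x y : TruncatedWittVector p n R) : x = y :=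
  TruncatedWittVector.ext fun _ => Subsingleton.elim _ _

/-- `y · V(x) = V(F(Res y) · x)` -/
theorem mul_Vs (hpR : (p : R) = 0) (y : Wm1) (x : Wm) :
    y * Vs p m x = Vs p m (frob p m hpR (Res p m y) * x) := by
  rcases subsingleton_or_nontrivial R with hR | hR
  · exact subsingleton_W p _ _ _
  · have : CharP R p := (CharP.charP_iff_prime_eq_zero hp.out).mpr hpR
    obtain ⟨Y, rfl⟩ := WittVector.truncate_surjective p (m + 1) R y
    obtain ⟨X, rfl⟩ := WittVector.truncate_surjective p m R x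
    rw [Vs_truncate, ← map_mul, mul_comm, ← WittVector.verschiebung_mul_frobenius,
      TruncatedWittVector.truncate_wittVector_truncate, frob_truncate, ← map_mul, Vs_truncate,
      mul_comm]

/-- `p · y = V(F(Res y))` -/
theorem p_mul (hpR : (p : R) = 0) (y : Wm1) :
    (p : Wm1) * y = Vs p m (frob p m hpR (Res p m y)) := by
  rcases subsingleton_or_nontrivial R with hR | hR
  · exact subsingleton_W p _ _ _
  · have : CharP R p := (CharP.charP_iff_prime_eq_zero hp.out).mpr hpR
    obtain ⟨Y, rfl⟩ := WittVector.truncate_surjective p (m + 1) R y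
    rw [TruncatedWittVector.truncate_wittVector_truncate, frob_truncate, Vs_truncate,
      WittVector.verschiebung_frobenius, map_mul, map_natCast, mul_comm]

theorem Vs_coeff_zero (x : Wm) : (Vs p m x).coeff 0 = 0 := by
  rw [coeff_shift]
  simp

theorem Vs_coeff_succ (x : Wm) (i : Fin m) : (Vs p m x).coeff i.succ = x.coeff i := by
  rw [coeff_shift]
  have h1 : m.succ - m ≤ ((i.succ : Fin (m + 1)) : ℕ) := by
    simp only [Fin.val_succ]; omega
  rw [dif_pos h1]
  congr 1
  apply Fin.ext
  simp only [Fin.val_succ]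
  omega

theorem Vs_injective : Function.Injective (Vs p m (R := R)) := by
  intro x y h
  apply TruncatedWittVector.ext
  intro i
  have := congrArg (fun t => TruncatedWittVector.coeff i.succ t) h
  rwa [Vs_coeff_succ, Vs_coeff_succ] at this

theorem exists_Vs_of_coeff_zero (w : Wm1) (h : w.coeff 0 = 0) : ∃ u : Wm, Vs p m u = w := by
  refine ⟨TruncatedWittVector.mk p (fun i => w.coeff i.succ), ?_⟩
  apply TruncatedWittVector.ext
  intro i
  refine Fin.cases ?_ (fun j => ?_) i
  · rw [Vs_coeff_zero, h]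
  · rw [Vs_coeff_succ, TruncatedWittVector.coeff_mk]

theorem coeff_zero_add (x y : Wm1) : (x + y).coeff 0 = x.coeff 0 + y.coeff 0 := by
  obtain ⟨X, rfl⟩ := WittVector.truncate_surjective p (m + 1) R x
  obtain ⟨Y, rfl⟩ := WittVector.truncate_surjective p (m + 1) R y
  rw [← map_add, WittVector.coeff_truncate, WittVector.coeff_truncate, WittVector.coeff_truncate]
  exact WittVector.add_coeff_zero X Y

theorem coeff_zero_sub (x y : Wm1) : (x - y).coeff 0 = x.coeff 0 - y.coeff 0 := by
  have := coeff_zero_add p m (x - y) y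
  rw [sub_add_cancel] at this
  rw [this]; ring

theorem Res_coeff_zero (hm : 0 < m) (y : Wm1) : (Res p m y).coeff ⟨0, hm⟩ = y.coeff 0 := by
  rw [TruncatedWittVector.coeff_truncate]
  rfl

section Split

variable (hm : 0 < m) (hpR : (p : R) = 0) (σ : TruncatedWittVector p m R →+ R) (h1 : σ 1 = 1)
  (hF : ∀ x y : TruncatedWittVector p m R, σ (frob p m hpR x * y) = x.coeff ⟨0, hm⟩ * σ y)

include h1 hF in
theorem sigma_frob (x : Wm) : σ (frob p m hpR x) = x.coeff ⟨0, hm⟩ := by
  have := hF x 1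
  rwa [mul_one, h1, mul_one] at this

include hpR in
theorem sigma_p_mul (u : Wm) : σ ((p : Wm) * u) = 0 := by
  have : (p : Wm) * u = p • u := by rw [nsmul_eq_mul]
  rw [this, map_nsmul, nsmul_eq_mul, hpR, zero_mul]

include hF in
/-- S16372 -/
theorem ideal_stable (y : Wm1) (x : Wm) (hx : σ x = 0) :
    ∃ x' : Wm, σ x' = 0 ∧ y * Vs p m x = Vs p m x' :=
  ⟨frob p m hpR (Res p m y) * x, by rw [hF, hx, mul_zero], mul_Vs p m hpR y x⟩

include hF in
theorem mem_I_iff (I : Ideal Wm1)
    (hI : I = Ideal.span (Vs p m '' {x : Wm | σ x = 0})) (w : Wm1) :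
    w ∈ I ↔ ∃ x : Wm, σ x = 0 ∧ Vs p m x = w := by
  constructor
  · intro hw
    rw [hI] at hw
    induction hw using Submodule.span_induction with
    | mem y hy =>
      obtain ⟨x, hx, rfl⟩ := hy
      exact ⟨x, hx, rfl⟩
    | zero => exact ⟨0, map_zero σ, map_zero _⟩
    | add y z _ _ hy hz =>
      obtain ⟨x, hx, rfl⟩ := hy
      obtain ⟨x', hx', rfl⟩ := hz
      exact ⟨x + x', by rw [map_add, hx, hx', add_zero], map_add _ _ _⟩
    | smul a y _ hy =>
      obtain ⟨x, hx, rfl⟩ := hy
      obtain ⟨x', hx', h⟩ := ideal_stable p m hm hpR σ hF a x hx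
      exact ⟨x', hx', by rw [smul_eq_mul, h]⟩
  · rintro ⟨x, hx, rfl⟩
    rw [hI]
    exact Ideal.subset_span ⟨x, hx, rfl⟩

include h1 hF in
/-- S16373, first part -/
theorem mk_mem_span_iff (I : Ideal Wm1)
    (hI : I = Ideal.span (Vs p m '' {x : Wm | σ x = 0})) (w : Wm1) :
    Ideal.Quotient.mk I w ∈ Ideal.span ({(p : Wm1 ⧸ I)} : Set _) ↔ w.coeff 0 = 0 := by
  rw [Ideal.mem_span_singleton']
  constructor
  · rintro ⟨q, hq⟩
    obtain ⟨z, rfl⟩ := Ideal.Quotient.mk_surjective q
    rw [← map_natCast (Ideal.Quotient.mk I), ← map_mul, Ideal.Quotient.eq,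
      mem_I_iff p m hm hpR σ hF I hI] at hq
    obtain ⟨x, _, hx⟩ := hq
    have h0 := congrArg (fun t => TruncatedWittVector.coeff (0 : Fin (m + 1)) t) hx
    rw [Vs_coeff_zero, coeff_zero_sub, mul_comm, p_mul p m hpR, Vs_coeff_zero, zero_sub] at h0
    exact (neg_eq_zero.mp h0.symm)
  · intro h0
    obtain ⟨u, rfl⟩ := exists_Vs_of_coeff_zero p m w h0
    -- choose z with first coefficient σ u
    let z : Wm1 := TruncatedWittVector.mk p (fun i => if (i : ℕ) = 0 then σ u else 0)
    have hz0 : z.coeff 0 = σ u := by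
      rw [TruncatedWittVector.coeff_mk]; simp
    refine ⟨Ideal.Quotient.mk I z, ?_⟩
    rw [← map_natCast (Ideal.Quotient.mk I), ← map_mul, Ideal.Quotient.eq,
      mem_I_iff p m hm hpR σ hF I hI, mul_comm, p_mul p m hpR]
    refine ⟨frob p m hpR (Res p m z) - u, ?_, map_sub _ _ _⟩
    rw [map_sub, sigma_frob p m hm hpR σ h1 hF, Res_coeff_zero, hz0, sub_self]

include h1 hF in
/-- S16373, second part -/
theorem p_mul_eq_zero_iff (I : Ideal Wm1)
    (hI : I = Ideal.span (Vs p m '' {x : Wm | σ x = 0})) (q : Wm1 ⧸ I) :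
    (p : Wm1 ⧸ I) * q = 0 ↔ q ∈ Ideal.span ({(p : Wm1 ⧸ I)} : Set _) := by
  obtain ⟨w, rfl⟩ := Ideal.Quotient.mk_surjective q
  rw [mk_mem_span_iff p m hm hpR σ h1 hF I hI, ← map_natCast (Ideal.Quotient.mk I), ← map_mul,
    Ideal.Quotient.eq_zero_iff_mem, mem_I_iff p m hm hpR σ hF I hI, p_mul p m hpR]
  constructor
  · rintro ⟨x, hx, hxe⟩
    have := Vs_injective p m hxe
    rw [this, sigma_frob p m hm hpR σ h1 hF, Res_coeff_zero] at hx
    exact hx
  · intro h0
    refine ⟨_, ?_, rfl⟩
    rw [sigma_frob p m hm hpR σ h1 hF, Res_coeff_zero, h0]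

end Split

end Groth.Agent.Helper2.Fix.QFSplitOrig
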