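import Mathlib
import Groth.Agent.Lib.Helper8.Depth31
import Groth.Agent.Lib.Helper8.Depth29

/-!
# A Noetherian domain is the intersection of its localizations at primes of depth one
-/

set_option autoImplicit false
universe u v

namespace Groth.Agent.Helper2.Fix.Refl5Orig

open LocCoh Groth.Agent.Helper8.Depth Pointwise

variable {A : Type u} [CommRing A] [IsDomain A] [IsNoetherianRing A]

theorem mem_range_of_mem_localization_depth_one (x : FractionRing A)
    (hx : ∀ (p : Ideal A) [p.IsPrime],
      depth (Localization.AtPrime p) (Localization.AtPrime p) = 1 →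
        x ∈ Set.range (algebraMap (Localization.AtPrime p) (FractionRing A))) :
    x ∈ Set.range (algebraMap A (FractionRing A)) := by
  obtain ⟨a, ⟨b, hb⟩, hab⟩ := IsLocalization.exists_mk'_eq (nonZeroDivisors A) x
  have hb0 : b ≠ 0 := nonZeroDivisors.ne_zero hb
  have hspec : x * algebraMap A (FractionRing A) b = algebraMap A (FractionRing A) a := by
    rw [← hab]
    exact IsLocalization.mk'_spec _ a ⟨b, hb⟩
  have hinj : Function.Injective (algebraMap A (FractionRing A)) := IsFractionRing.injective A _
  have hb' : algebraMap A (FractionRing A) b ≠ 0 := by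
    intro h
    exact hb0 (hinj (by rw [h, map_zero]))
  by_contra hcon
  have hā : (Submodule.Quotient.mk a : QuotSMulTop b A) ≠ 0 := by
    intro h0
    rw [Submodule.Quotient.mk_eq_zero] at h0
    obtain ⟨c, -, hc⟩ := (Submodule.mem_smul_pointwise_iff_exists _ _ _).mp h0
    apply hcon
    refine ⟨c, ?_⟩
    have h1 : algebraMap A (FractionRing A) c * algebraMap A (FractionRing A) b =
        x * algebraMap A (FractionRing A) b := by
      rw [hspec, ← map_mul, ← hc, smul_eq_mul, mul_comm]
    exact mul_right_cancel₀ hb' h1
  obtain ⟨P, hP, hle⟩ := exists_le_isAssociatedPrime_of_isNoetherianRing A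
    (Submodule.Quotient.mk a : QuotSMulTop b A) hā
  haveI := hP.isPrime
  have hbP : b ∈ P := by
    apply hle
    rw [Submodule.mem_colon_singleton, Submodule.mem_bot, ← Submodule.Quotient.mk_smul,
      Submodule.Quotient.mk_eq_zero]
    exact Submodule.smul_mem_pointwise_smul _ _ _ Submodule.mem_top
  have hd0 : depth (Localization.AtPrime P) (LocalizedModule P.primeCompl (QuotSMulTop b A)) = 0 :=
    (depth_localizedModule_eq_zero_iff P (QuotSMulTop b A)).mpr hP
  have hd1 := depth_localizedModule_self_eq_succ A P hbP hb0
  rw [hd0, zero_add, depth_localizedModule_self] at hd1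
  obtain ⟨y, hy⟩ := hx P hd1.symm
  obtain ⟨c, s, hcs⟩ := IsLocalization.exists_mk'_eq P.primeCompl y
  have hy' : x * algebraMap A (FractionRing A) (s : A) = algebraMap A (FractionRing A) c := by
    have h1 : y * algebraMap A (Localization.AtPrime P) (s : A) =
        algebraMap A (Localization.AtPrime P) c := by
      rw [← hcs]
      exact IsLocalization.mk'_spec _ c s
    have h2 := congrArg (algebraMap (Localization.AtPrime P) (FractionRing A)) h1
    rw [map_mul, hy, ← IsScalarTower.algebraMap_apply, ← IsScalarTower.algebraMap_apply] at h2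
    exact h2
  have hmul : (s : A) * a = c * b := by
    apply hinj
    rw [map_mul, map_mul, ← hspec, ← hy']
    ring
  have hsP : (s : A) ∈ P := by
    apply hle
    rw [Submodule.mem_colon_singleton, Submodule.mem_bot, ← Submodule.Quotient.mk_smul,
      Submodule.Quotient.mk_eq_zero, smul_eq_mul, hmul, mul_comm]
    exact Submodule.smul_mem_pointwise_smul c b _ Submodule.mem_top
  exact s.2 hsP

end Groth.Agent.Helper2.Fix.Refl5Orig
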